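import Cfsg.Agent.H419.Spor.Co1
import Cfsg.Agent.H620.PNorm

/-!
# S4555 / S4559: the row `Co1`, `p = 2` (helper592)

The character of degree 276 vanishes at the permutations of cycle type `4^6`.
-/

set_option autoImplicit false

namespace Cfsg.Agent.H592.VN.Co1

open Cfsg Cfsg.Agent.H419.Spor.Co1 Cfsg.Agent.H620.PNorm
open Cfsg.Agent.SporadicA.Co0Mono Cfsg.Agent.SporadicA.Co1Simple Cfsg.Agent.Co2Type.Mono
open Cfsg.Agent.H419.Spor.Mathieu
open Cfsg.Agent.CoOneType.CoOneE (pr)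

universe u

theorem fix1 : ∀ p, ((y12 ^ 3 : M24) : Equiv.Perm GolayPt) p ≠ p := by
  show ∀ p, ((T * T * T * projInv) ^ 3) p ≠ p
  decide +kernel

theorem fix2 : ∀ p, ((y12 ^ 3 : M24) : Equiv.Perm GolayPt) (((y12 ^ 3 : M24) : Equiv.Perm GolayPt) p) ≠ p := by
  show ∀ p, ((T * T * T * projInv) ^ 3) (((T * T * T * projInv) ^ 3) p) ≠ p
  decide +kernel

theorem co1_2 {K : Type u} [Group K] (h : Spor.IsoCo1 K) : VPow 2 K := by
  obtain ⟨e⟩ := h
  refine VPow.mulEquiv ⟨pr (permCo0 (y12 ^ 3)), ⟨2, ?_⟩, vz fix1 fix2⟩ e.symm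
  have := orderOf_injective (pr.comp permCo0) pr_perm_injective (y12 ^ 3)
  have h1 : orderOf (y12 ^ 3) = 4 := by
    rw [orderOf_pow, y12_order]; rfl
  rw [h1] at this
  exact this

end Cfsg.Agent.H592.VN.Co1
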