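import Cfsg.Agent.H592.VN.Co2Count
import Cfsg.Agent.H769.IMC.RowCoTwo
import Cfsg.Agent.H220.S4987.Co2
import Cfsg.Agent.H305.RankVal
import Cfsg.Agent.H620.PNorm

/-!
# S4555 / S4559: the row `Co2`, `p = 2` (helper592)

The character of degree 2024 of the rank 3 action on 2300 points vanishes at an element of order 4.
-/

set_option autoImplicit false

namespace Cfsg.Agent.H592.VN.Co2

open Cfsg Cfsg.Agent.H620.PNorm Cfsg.Agent.H713 Cfsg.Agent.H419.Row Cfsg.Agent.H419.Count
  Cfsg.Agent.LeechMat.Words Cfsg.Agent.LeechMat.Core Cfsg.Agent.LeechMat.Code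
  Cfsg.Agent.LeechMat.Elements Cfsg.Agent.Co2Type.MatsData Cfsg.Agent.Co2Type.Co2El
  Cfsg.Agent.SporadicStructure.Co2RankThree Cfsg.Agent.H843.IMC.Co2B
  Cfsg.Agent.H690.Spor.RankThree

universe u

/-- Two rank 3 structures with the same `k ≠ l` agree. -/
theorem r3_unique {G X : Type*} [Group G] [MulAction G X] {R R' : X → X → Prop} {k l : ℕ} (h : R3 G X R k l)
    (h' : R3 G X R' k l) (hkl : k ≠ l) {a b : X} (hab : R a b) : R' a b := by
  by_contra hn
  have hfin : Finite X := Nat.finite_of_card_ne_zero (by rw [h.cardn]; omega)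
  have hne : a ≠ b := by
    rintro rfl
    exact h.irr a hab
  have key : ∀ y, R a y ↔ (y ≠ a ∧ ¬ R' a y) := by
    intro y
    constructor
    · intro hy
      refine ⟨fun e => h.irr a (by rw [e] at hy; exact hy), fun hy' => hn ?_⟩
      obtain ⟨g, h1, h2⟩ := h.one a y a b hy hab
      rw [← h1, ← h2]
      exact h'.inv g _ _ hy'
    · rintro ⟨h1, h2⟩
      obtain ⟨g, h3, h4⟩ := h'.two a b a y hne hn h1.symm h2
      rw [← h3, ← h4]
      exact h.inv g _ _ hab
  have h1 : ({y | R a y} : Set X).ncard = k := h.cardk a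
  have h2 : ({y | R' a y} : Set X).ncard = k := h'.cardk a
  have h3 : ({y | R a y} ∪ {y | R' a y} : Set X) = {a}ᶜ := by
    ext y
    show (R a y ∨ R' a y) ↔ y ≠ a
    rw [key]
    constructor
    · rintro (h3 | h3)
      · exact h3.1
      · rintro rfl
        exact h'.irr _ h3
    · intro h3
      by_cases h4 : R' a y
      · exact Or.inr h4
      · exact Or.inl ⟨h3, h4⟩
  have h4 : Disjoint ({y | R a y} : Set X) {y | R' a y} := by
    rw [Set.disjoint_left]
    intro y h4 h5
    exact ((key y).1 h4).2 h5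
  have h5 := Set.ncard_union_eq h4 (Set.toFinite _) (Set.toFinite _)
  rw [h3, h1, h2] at h5
  have h6 := Set.ncard_add_ncard_compl ({a} : Set X)
  rw [Set.ncard_singleton, h5, h.cardn] at h6
  omega

/-- The fibres of the map to the pairs have two elements. -/
theorem card_two (P : Y → Prop) : Nat.card {x : X // P (mk x)} = 2 * Nat.card {y : Y // P y} := by
  classical
  let f : {x : X // P (mk x)} → {y : Y // P y} := fun x => ⟨mk x.1, x.2⟩
  have e := (Equiv.sigmaFiberEquiv f).symm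
  have h1 := Fintype.ofFinite {y : Y // P y}
  rw [Nat.card_congr e, Nat.card_sigma, Finset.sum_congr rfl (g := fun _ => 2), Finset.sum_const, Finset.card_univ,
    smul_eq_mul, mul_comm, Nat.card_eq_fintype_card]
  rintro ⟨y, hy⟩ -
  obtain ⟨x, rfl⟩ := exists_mk y
  have h2 : {z : X | mk z = mk x} = {x, op x} := by
    ext z
    show mk z = mk x ↔ _
    rw [eq_comm, mk_eq]
    rfl
  have h3 : Nat.card {z : X // mk z = mk x} = ({z : X | mk z = mk x}).ncard := rfl
  have h4 : Nat.card {z : X // mk z = mk x} = 2 := by rw [h3, h2, Set.ncard_pair (op_ne x).symm]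
  rw [← h4]
  refine Nat.card_congr ⟨fun z => ⟨z.1.1, congrArg Subtype.val z.2⟩,
    fun z => ⟨⟨z.1, by rw [z.2]; exact hy⟩, Subtype.ext z.2⟩, fun z => rfl, fun z => rfl⟩

/-- The element of order 4. -/
noncomputable def g : Spor.Co2 := Cfsg.Agent.H220.S4987.Co2.wd W

theorem g_smul (x : X) : ((g • x : X) : X).1 = g0 • x.1 := rfl

theorem pow_four : g ^ 4 = 1 := Cfsg.Agent.H220.S4987.Co2.pow_eq_one ltW (by decide +kernel)

theorem card_N : Nat.card {y : Y // R y (g • y)} = 828 := by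
  have h1 := card_two (fun y => R y (g • y))
  have h2 : Nat.card {x : X // R (mk x) (g • mk x)} = Nat.card S0 := by
    refine Nat.card_congr (Equiv.subtypeEquivRight fun x => ?_)
    rw [smul_mk, R_mk]
    rfl
  rw [h2, card_union.2] at h1
  omega

theorem no_fix (y : Y) : g • y ≠ y := by
  obtain ⟨x, rfl⟩ := exists_mk y
  intro h
  have hx : x ∈ S0 ∪ S1 := by rw [card_union.1]; trivial
  have h1 : dt x.1 (g • x).1 = 0 ∨ dt x.1 (g • x).1 = 16 ∨ dt x.1 (g • x).1 = 8 := by
    rcases hx with (h | h) | h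
    · exact Or.inl h
    · exact Or.inr (Or.inl h)
    · exact Or.inr (Or.inr h)
  rw [smul_mk] at h
  rcases (mk_eq _ _).1 h.symm with h2 | h2
  · rw [h2, x.2.1] at h1
    norm_num at h1
  · have h3 := dt_op x x
    rw [x.2.1, ← h2] at h3
    rw [h3] at h1
    norm_num at h1

theorem card_fix : Nat.card (MulAction.fixedBy Y g) = 0 := by
  have : IsEmpty (MulAction.fixedBy Y g) := ⟨fun y => no_fix y.1 y.2⟩
  exact Nat.card_of_isEmpty

theorem van : Van Spor.Co2 g := by
  have hfin := Cfsg.Agent.H220.S4987.Co2.finite_co2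
  obtain ⟨R', _, _, _, a, b, h, hab, rfl, rfl⟩ := Cfsg.Agent.H769.IMC.RowCoTwo.exists_rs
  obtain ⟨χ, hχ⟩ := Cfsg.Agent.H305.RankVal.exists_char h hab (r := -9) (s := 63) (by norm_num) (by norm_num)
    (by norm_num) (by norm_num) (by norm_num)
  refine ⟨χ, ?_⟩
  have h1 : Nat.card {y : Y // R' y (g • y)} = 828 := by
    rw [← card_N]
    refine Nat.card_congr (Equiv.subtypeEquivRight fun y => ?_)
    exact ⟨fun hh => r3_unique h r3 (by norm_num) hh, fun hh => r3_unique r3 h (by norm_num) hh⟩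
  have h2 := hχ g
  rw [h1, card_fix] at h2
  have h3 : ((-9 : ℂ) - 63) * (χ : Spor.Co2 → ℂ) g = 0 := by
    rw [h2]; push_cast; norm_num
  rcases mul_eq_zero.1 h3 with h4 | h4
  · norm_num at h4
  · exact h4

theorem vz : VZ Spor.Co2 g := by
  have hs : IsSimpleGroup Spor.Co2 := Cfsg.Agent.Schreier.CoTwoStab.isSimpleGroup
  have hfin := Cfsg.Agent.H220.S4987.Co2.finite_co2
  exact vz_of_inner van (inner_of_out Cfsg.Agent.S2070.result)

theorem co2_2 {K : Type u} [Group K] (h : Spor.IsoCo2 K) : VPow 2 K := by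
  obtain ⟨e⟩ := h
  have h1 : orderOf g ∣ 2 ^ 2 := orderOf_dvd_of_pow_eq_one pow_four
  obtain ⟨j, -, hj⟩ := (Nat.dvd_prime_pow Nat.prime_two).1 h1
  exact VPow.mulEquiv ⟨g, ⟨j, hj⟩, vz⟩ e.symm

end Cfsg.Agent.H592.VN.Co2
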