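import Cfsg.Agent.H592.VN.Co2Tab
import Cfsg.Agent.H843.IMC.Co2B

/-!
# S4555 / S4559, the row `Co2`, `p = 2`: the count (helper592)

Of the 4600 vectors `w` with `w · u = -16` exactly 1656 satisfy `w · g w = 0, 16`, the other 2944 satisfy `w · g w = 8`.
-/

set_option autoImplicit false

namespace Cfsg.Agent.H592.VN.Co2

open Cfsg Cfsg.Agent.LeechMat.Words Cfsg.Agent.LeechMat.Core Cfsg.Agent.LeechMat.Code
  Cfsg.Agent.LeechMat.Elements Cfsg.Agent.Co2Type.MatsData Cfsg.Agent.Co2Type.Co2El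
  Cfsg.Agent.SporadicStructure.Co2RankThree Cfsg.Agent.H843.IMC.Co2B

theorem walk_spec (f : ℕ → Bool) (n : ℕ) : ∀ (p t : ℕ), walk f n p t = true →
    ∃ l : List ℕ, l.length = n ∧ l.Pairwise (· < ·) ∧ ∀ c ∈ l, p < c ∧ c < 2 ^ 120 ∧ f c = true := by
  induction n with
  | zero => exact fun _ _ _ => ⟨[], rfl, List.Pairwise.nil, by simp⟩
  | succ n ih =>
    intro p t h
    rw [walk, frc_eq, frc_eq, Bool.and_eq_true, Bool.and_eq_true] at h
    obtain ⟨h1, h2, h3⟩ := h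
    obtain ⟨l, hl, hp, hf⟩ := ih _ _ h3
    have h1' : p < t % 2 ^ 120 := by rwa [Nat.blt_eq] at h1
    refine ⟨(t % 2 ^ 120) :: l, by rw [List.length_cons, hl], List.pairwise_cons.2 ⟨fun c hc => (hf c hc).1, hp⟩, ?_⟩
    intro c hc
    rcases List.mem_cons.1 hc with rfl | hc
    · exact ⟨h1', Nat.mod_lt _ (Nat.two_pow_pos _), h2⟩
    · obtain ⟨h4, h5⟩ := hf c hc
      exact ⟨h1'.trans h4, h5⟩

theorem dn_eq (n : ℕ) : ∀ a b : ℕ, dn n a b = ∑ k ∈ Finset.range n, dig a k * dig b k := by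
  induction n with
  | zero => exact fun _ _ => rfl
  | succ n ih =>
    intro a b
    rw [dn, frc_eq, frc_eq, ih, Finset.sum_range_succ', dig_zero, dig_zero, add_comm]
    congr 1
    exact Finset.sum_congr rfl fun k _ => by rw [dig_shift, dig_shift]

theorem dsum_eq (n : ℕ) : ∀ a : ℕ, dsum n a = ∑ k ∈ Finset.range n, dig a k := by
  induction n with
  | zero => exact fun _ => rfl
  | succ n ih =>
    intro a
    rw [dsum, ih, Finset.sum_range_succ', dig_zero, add_comm]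
    congr 1
    exact Finset.sum_congr rfl fun k _ => by rw [dig_shift]

theorem dot_of {a b v : ℕ} (h : dq a b v = true) : dotInt (vec a) (vec b) = (v : ℤ) - 16 := by
  have h1 : dn 24 a b + 6160 = 16 * (dsum 24 a + dsum 24 b) + v := Nat.eq_of_beq_eq_true h
  rw [dn_eq, dsum_eq, dsum_eq] at h1
  have h2 : ((∑ k ∈ Finset.range 24, dig a k * dig b k : ℕ) : ℤ) + 6160 =
      16 * (((∑ k ∈ Finset.range 24, dig a k : ℕ) : ℤ) + ((∑ k ∈ Finset.range 24, dig b k : ℕ) : ℤ)) + v := by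
    exact_mod_cast h1
  rw [← dotc_eq, dotc, sumTo_eq]
  have h3 : ∑ k ∈ Finset.range 24, sdig a k * sdig b k =
      ((∑ k ∈ Finset.range 24, dig a k * dig b k : ℕ) : ℤ) -
      16 * (((∑ k ∈ Finset.range 24, dig a k : ℕ) : ℤ) + ((∑ k ∈ Finset.range 24, dig b k : ℕ) : ℤ)) + 6144 := by
    have h4 : (6144 : ℤ) = ∑ _k ∈ Finset.range 24, (256 : ℤ) := by
      rw [Finset.sum_const, Finset.card_range]; norm_num
    rw [h4]
    push_cast
    rw [← Finset.sum_add_distrib, Finset.mul_sum, ← Finset.sum_sub_distrib, ← Finset.sum_add_distrib]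
    refine Finset.sum_congr rfl fun k _ => ?_
    unfold sdig
    ring
  rw [h3]
  linarith

theorem ltW : ∀ i ∈ W, i < 17 := by decide

/-- The element of `Co0` of the word. -/
noncomputable def g0 : Co0 := prodW el W

/-- What a passed check says. -/
theorem fc_sound {q : ℕ → ℕ → Bool} {c : ℕ} (hc : c < 2 ^ 120) (h : fc q c = true) :
    ∃ x : X, ((x.1 : leechLattice) : GolayPt → ℤ) = vec c ∧ ∃ m, q c m = true ∧
      ((g0 • x.1 : leechLattice) : GolayPt → ℤ) = vec m := by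
  rw [fc, Bool.and_eq_true, Bool.and_eq_true, Bool.and_eq_true] at h
  obtain ⟨h1, h2, h3, h4⟩ := h
  have h5 := dot_of h2
  have h6 := dot_of h3
  have hx : (⟨vec c, isLeech_sound h1⟩ : leechLattice) ∈ A a0 := by
    refine ⟨?_, ?_⟩
    · show dotInt (vec c) (vec c) = 32
      rw [h5]; norm_num
    · show dotInt (Spor.leechU : GolayPt → ℤ) (vec c) = -16
      have h7 : (Spor.leechU : GolayPt → ℤ) = vec Cfsg.Agent.Co2Type.MatsA.cU := vec_cU.symm
      rw [h7, h6]; norm_num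
  obtain ⟨m, -, hm, h8⟩ := run_sound (Ms := Ms) (Ss := Ss) (G := el) W (fun i hi => (good_el (ltW i hi)).1)
    (fun i hi => Ss_eq i (ltW i hi)) c (by
      have h9 : (32 : ℕ) ^ 24 = 2 ^ 120 := by norm_num
      rw [h9]; exact hc) _ h4
  refine ⟨⟨_, hx⟩, rfl, m, hm, h8 _ rfl ?_⟩
  show sqNorm (vec c) ≤ 225
  rw [sqNorm_eq_dotInt, h5]; norm_num

theorem le_ncard {S : Set X} {l : List ℕ} (hp : l.Pairwise (· < ·))
    (h : ∀ c ∈ l, c < 2 ^ 120 ∧ ∃ x ∈ S, (((x : X).1 : leechLattice) : GolayPt → ℤ) = vec c) :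
    l.length ≤ Nat.card S := by
  have hnd : l.Nodup := List.Pairwise.imp (fun h => ne_of_lt h) hp
  have h1 : ∀ i : Fin l.length, ∃ x : S, ((x.1.1 : leechLattice) : GolayPt → ℤ) = vec (l.get i) := by
    intro i
    obtain ⟨-, x, hx, hx'⟩ := h _ (List.get_mem l i)
    exact ⟨⟨x, hx⟩, hx'⟩
  choose f hf using h1
  have hinj : Function.Injective f := by
    intro i j hij
    have h2 : vec (l.get i) = vec (l.get j) := by rw [← hf i, ← hf j, hij]
    have h3 := Cfsg.Agent.LeechPack.Core.code_inj (h _ (List.get_mem l i)).1 (h _ (List.get_mem l j)).1 h2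
    exact List.nodup_iff_injective_get.1 hnd h3
  have h4 := Nat.card_le_card_of_injective f hinj
  rwa [Nat.card_fin] at h4

/-- The two sets. -/
def S0 : Set X := {x | dt x.1 (g0 • x.1) = 0 ∨ dt x.1 (g0 • x.1) = 16}

def S1 : Set X := {x | dt x.1 (g0 • x.1) = 8}

theorem le0 : 1656 ≤ Nat.card S0 := by
  obtain ⟨l, hl, hp, hf⟩ := walk_spec _ _ _ _ walk0
  rw [← hl]
  refine le_ncard hp fun c hc => ⟨(hf c hc).2.1, ?_⟩
  obtain ⟨x, hx, m, hm, hm'⟩ := fc_sound (hf c hc).2.1 (hf c hc).2.2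
  refine ⟨x, ?_, hx⟩
  have h1 : dt x.1 (g0 • x.1) = dotInt (vec c) (vec m) := by
    unfold dt
    rw [hx, hm']
  show dt x.1 (g0 • x.1) = 0 ∨ dt x.1 (g0 • x.1) = 16
  rw [h1]
  rcases (Bool.or_eq_true _ _).mp hm with h2 | h2
  · left; rw [dot_of h2]; norm_num
  · right; rw [dot_of h2]; norm_num

theorem le1 : 2944 ≤ Nat.card S1 := by
  obtain ⟨l, hl, hp, hf⟩ := walk_spec _ _ _ _ walk1
  rw [← hl]
  refine le_ncard hp fun c hc => ⟨(hf c hc).2.1, ?_⟩
  obtain ⟨x, hx, m, hm, hm'⟩ := fc_sound (hf c hc).2.1 (hf c hc).2.2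
  refine ⟨x, ?_, hx⟩
  show dotInt _ _ = 8
  rw [hx, hm', dot_of hm]; norm_num

theorem disj : Disjoint S0 S1 := by
  rw [Set.disjoint_left]
  intro x h0 h1
  have h1' : dt x.1 (g0 • x.1) = 8 := h1
  rcases h0 with h0 | h0 <;> rw [h1'] at h0 <;> norm_num at h0

theorem card_union : S0 ∪ S1 = Set.univ ∧ Nat.card S0 = 1656 := by
  have h1 : (S0 ∪ S1).ncard = S0.ncard + S1.ncard := Set.ncard_union_eq disj (Set.toFinite _) (Set.toFinite _)
  have h2 : (S0 ∪ S1).ncard ≤ 4600 := by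
    rw [← card_X, ← Set.ncard_univ]
    exact Set.ncard_le_ncard (Set.subset_univ _) (Set.toFinite _)
  have h3 : 1656 ≤ S0.ncard := le0
  have h4 : 2944 ≤ S1.ncard := le1
  refine ⟨?_, ?_⟩
  · refine Set.eq_of_subset_of_ncard_le (Set.subset_univ _) ?_ (Set.toFinite _)
    rw [Set.ncard_univ, card_X]
    omega
  · show S0.ncard = 1656
    omega

end Cfsg.Agent.H592.VN.Co2
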