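import Cfsg.Agent.H592.VN.Co3Cent
import Cfsg.Agent.H592.VN.Co3Cls
import Cfsg.Agent.H710.VanCount
import Cfsg.Agent.H620.PNorm
import Cfsg.Agent.S2071

/-!
# S4555 / S4559: the row `Co3`, `p = 2` (helper592)

An element of order 8 with a centraliser of order at most 32, and 33 conjugacy classes.
-/

set_option autoImplicit false

namespace Cfsg.Agent.H592.VN.Co3

open Cfsg Cfsg.Agent.LeechMat.Core Cfsg.Agent.LeechPack.Core Cfsg.Agent.LeechPack.X552
  Cfsg.Agent.Schreier.CoThreeGens Cfsg.Agent.Schreier.CoThreeCent Cfsg.Agent.H592.VN.Co2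
  Cfsg.Agent.H620.PNorm Cfsg.Agent.H713 Cfsg.Agent.H710.VanCount

universe u

/-- A step of the bound. -/
theorem card_le_step {m : ℕ} (A : Subgroup (Equiv.Perm (Fin m))) (x : Fin m) (S : Finset (Fin m))
    (h : ∀ σ ∈ A, σ x ∈ S) (B : Subgroup (Equiv.Perm (Fin m))) (hB : ∀ σ ∈ A, σ x = x → σ ∈ B) :
    Nat.card A ≤ Nat.card B * S.card := by
  classical
  have := Fintype.ofFinite A
  have := Fintype.ofFinite B
  have h1 : (Finset.univ : Finset A).card ≤ Nat.card B * ((Finset.univ : Finset A).image fun σ => σ.1 x).card := by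
    refine Finset.card_le_mul_card_image _ _ fun a ha => ?_
    obtain ⟨ρ, -, rfl⟩ := Finset.mem_image.1 ha
    rw [Nat.card_eq_fintype_card, ← Finset.card_univ]
    refine Finset.card_le_card_of_injOn (fun σ => if hs : ρ.1⁻¹ * σ.1 ∈ B then (⟨ρ.1⁻¹ * σ.1, hs⟩ : B) else 1)
      (fun _ _ => Finset.mem_coe.2 (Finset.mem_univ _)) ?_
    intro σ hσ σ' hσ' hh
    have key : ∀ σ : A, σ ∈ ((Finset.univ : Finset A).filter fun σ => σ.1 x = ρ.1 x) → ρ.1⁻¹ * σ.1 ∈ B := by
      intro σ hσ
      refine hB _ (A.mul_mem (A.inv_mem ρ.2) σ.2) ?_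
      rw [Equiv.Perm.mul_apply, (Finset.mem_filter.1 hσ).2]
      exact ρ.1.symm_apply_apply x
    have h2 := key σ hσ
    have h3 := key σ' hσ'
    simp only [dif_pos h2, dif_pos h3] at hh
    exact Subtype.ext (mul_left_cancel (congrArg Subtype.val hh))
  rw [Finset.card_univ, ← Nat.card_eq_fintype_card] at h1
  refine h1.trans (Nat.mul_le_mul_left _ (Finset.card_le_card ?_))
  intro y hy
  obtain ⟨σ, -, rfl⟩ := Finset.mem_image.1 hy
  exact h σ.1 σ.2

/-- The vectors of the type of `14`. -/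
def S0 : Finset (Fin 552) := Finset.univ.filter fun y => Nat.testBit M0 y = true

theorem mem_S0 {y : Fin 552} : y ∈ S0 ↔ Nat.testBit M0 y = true := by
  unfold S0
  rw [Finset.mem_filter]
  exact ⟨fun h => h.2, fun h => ⟨Finset.mem_univ _, h⟩⟩

theorem card_S0 : S0.card ≤ 32 := by
  rw [← card0]
  refine Finset.card_le_card_of_injOn (fun y : Fin 552 => (y : ℕ)) ?_ (fun (a : Fin 552) _ (b : Fin 552) _ h => Fin.ext h)
  intro y hy
  have hy' := mem_S0.1 (Finset.mem_coe.1 hy)
  exact Finset.mem_coe.2 (Finset.mem_filter.2 ⟨Finset.mem_range.2 y.2, hy'⟩)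

/-- The stabiliser. -/
def Ct1 : Subgroup (Equiv.Perm (Fin 552)) := Ct ⊓ stb (14 : Fin 552)

theorem card_one : Nat.card Ct ≤ Nat.card Ct1 * 32 :=
  (card_le_step Ct 14 S0 (fun _ hσ => mem_S0.2 (img14 hσ)) Ct1 (fun _ hσ h => Subgroup.mem_inf.2 ⟨hσ, mem_stb.2 h⟩)).trans
    (Nat.mul_le_mul_left _ card_S0)

theorem card_two : Nat.card Ct1 ≤ 2 := by
  have h3 := card_le_step Ct1 341 {341, 447} (fun σ hσ => by
      have hσ' := Subgroup.mem_inf.1 hσ
      rw [Finset.mem_insert, Finset.mem_singleton]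
      exact img341 hσ'.1 ⟨by norm_num, mem_stb.1 hσ'.2⟩) ⊥ (fun σ hσ h6 => by
      have hσ' := Subgroup.mem_inf.1 hσ
      rw [Subgroup.mem_bot]
      exact eq_one hσ'.1 ⟨by norm_num, mem_stb.1 hσ'.2⟩ ⟨by norm_num, h6⟩)
  rw [Subgroup.card_bot, one_mul] at h3
  exact h3.trans Finset.card_le_two

theorem card_Ct : Nat.card Ct ≤ 64 := by
  have h1 := card_one
  have h2 := card_two
  omega

/-! ### the opposite vectors -/

theorem exists_opp (i : Fin 552) : ∃ j, X j = u0 - X i := by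
  refine exists_X ⟨?_, ?_⟩
  · exact (X_mem i).2
  · have h1 : u0 - (u0 - X i) = X i := by abel
    have h2 := (X_mem i).1
    rw [← h1] at h2
    exact h2

noncomputable def oppF (i : Fin 552) : Fin 552 := (exists_opp i).choose

theorem X_oppF (i : Fin 552) : X (oppF i) = u0 - X i := (exists_opp i).choose_spec

theorem oppF_oppF (i : Fin 552) : oppF (oppF i) = i := by
  apply X_injective
  rw [X_oppF, X_oppF]
  abel

noncomputable def opp : Equiv.Perm (Fin 552) := Function.Involutive.toPerm oppF oppF_oppF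

theorem X_opp (i : Fin 552) : X (opp i) = u0 - X i := X_oppF i

theorem opp_ψ (g : G3) (i : Fin 552) : opp (ψ g i) = ψ g (opp i) := by
  apply X_injective
  rw [X_opp, X_ψ, X_ψ, X_opp, co0_sub]
  congr 1
  exact g.2.symm

theorem D_opp (i j : Fin 552) : D (opp i) (opp j) = D i j := by
  have h1 := (dots_spec i).2
  have h2 := (dots_spec j).2
  have h3 := sqNorm_u0
  rw [sqNorm_eq_dotInt] at h3
  show dotInt (X (opp i) : GolayPt → ℤ) (X (opp j) : GolayPt → ℤ) = dotInt (X i : GolayPt → ℤ) (X j : GolayPt → ℤ)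
  rw [X_opp, X_opp]
  show dotInt ((u0 : GolayPt → ℤ) - (X i : GolayPt → ℤ)) ((u0 : GolayPt → ℤ) - (X j : GolayPt → ℤ)) = _
  rw [dotInt_sub_left, dotInt_sub_right, dotInt_sub_right, h3, h2, dotInt_comm (X i : GolayPt → ℤ) (u0 : GolayPt → ℤ), h1]
  ring

theorem opp_mem : opp ∈ Ct := ⟨D_opp, fun i => opp_ψ t i⟩

theorem center_G3 : Subgroup.center G3 = ⊥ := by
  rcases IsSimpleGroup.eq_bot_or_eq_top_of_normal (Subgroup.center G3) inferInstance with h | h
  · exact h
  · exfalso
    have hc : ∀ a b : G3, a * b = b * a := fun a b => by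
      have : b ∈ Subgroup.center G3 := by rw [h]; trivial
      exact Subgroup.mem_center_iff.1 this a
    have : IsMulCommutative G3 := ⟨⟨hc⟩⟩
    have hp : (Nat.card G3).Prime := by
      let _ : CommGroup G3 := { (inferInstance : Group G3) with mul_comm := hc }
      exact IsSimpleGroup.prime_card
    rw [card_G3] at hp
    exact absurd hp (by norm_num)

theorem opp_notMem : opp ∉ (Subgroup.centralizer ({t} : Set G3)).map ψ := by
  rintro ⟨g, -, hg⟩
  have h1 : g ∈ Subgroup.center G3 := by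
    rw [Subgroup.mem_center_iff]
    intro h
    apply ψ_injective
    rw [map_mul, map_mul, hg]
    exact Equiv.ext fun i => (opp_ψ h i).symm
  rw [center_G3, Subgroup.mem_bot] at h1
  rw [h1, map_one] at hg
  have h2 := X_opp 0
  rw [← hg] at h2
  have h3 : (X 0 : leechLattice) = u0 - X 0 := h2
  have h4 := (dots_spec 0).2
  have h5 := (dots_spec 0).1
  have h6 : (u0 : leechLattice) = X 0 + X 0 := by
    rw [eq_sub_iff_add_eq] at h3
    exact h3.symm
  rw [h6] at h4
  have h7 : dotInt ((X 0 : GolayPt → ℤ) + (X 0 : GolayPt → ℤ)) (X 0 : GolayPt → ℤ) = 24 := h4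
  rw [dotInt_add_left, ← sqNorm_eq_dotInt, h5] at h7
  norm_num at h7

theorem map_le : (Subgroup.centralizer ({t} : Set G3)).map ψ ≤ Ct := by
  rintro _ ⟨g, hg, rfl⟩
  have hg' : g * t = t * g := Subgroup.mem_centralizer_singleton_iff.1 hg
  refine ⟨fun i j => ?_, fun i => ?_⟩
  · show dotInt (X (ψ g i) : GolayPt → ℤ) (X (ψ g j) : GolayPt → ℤ) = _
    rw [X_ψ, X_ψ]
    exact co0_dotInt (g : Co0) (X i) (X j)
  · have h1 := congrArg ψ hg'
    rw [map_mul, map_mul] at h1
    exact congrArg (fun σ : Equiv.Perm (Fin 552) => σ i) h1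

/-- **The centraliser of `t` has order at most 32.** -/
theorem card_cent : Nat.card (Subgroup.centralizer ({t} : Set G3)) ≤ 32 := by
  have h1 : Nat.card ((Subgroup.centralizer ({t} : Set G3)).map ψ) = Nat.card (Subgroup.centralizer ({t} : Set G3)) :=
    Subgroup.card_map_of_injective ψ_injective
  have h2 := Subgroup.card_dvd_of_le map_le
  obtain ⟨k, hk⟩ := h2
  have h3 := card_Ct
  have h4 : 0 < Nat.card Ct := Nat.card_pos
  rw [h1] at hk
  have hk0 : k ≠ 0 := by
    rintro rfl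
    omega
  have hk1 : k ≠ 1 := by
    rintro rfl
    apply opp_notMem
    rw [Subgroup.eq_of_le_of_card_ge map_le (by rw [h1, hk, mul_one])]
    exact opp_mem
  have hk2 : 2 ≤ k := by omega
  rw [hk] at h3
  nlinarith

/-! ### the classes -/

open Cfsg.Agent.SporadicStructure.Co0Matrix Cfsg.Agent.CoOneType.CoEval Cfsg.Agent.LThreeCo1.Ev Cfsg.Agent.H752.CoInv

theorem vec_lV : Cfsg.Agent.SporadicStructure.Co0Matrix.vec lV = Spor.vecV := by
  have : ∀ p, Cfsg.Agent.SporadicStructure.Co0Matrix.vec lV p = Spor.vecV p := by decide +kernel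
  exact funext this

theorem fold_lV (w : List ℕ) : fold M w lV = lV := by
  induction w with
  | nil => rfl
  | cons i w ih =>
    show ap (M i) (fold M w lV) = lV
    rw [ih, fixM]

theorem word_fix (w : List ℕ) : (w.map e).prod • u0 = u0 := by
  have h1 := (fold_spec rep w (show lV.length ≤ 24 by decide) (v := Spor.leechV) vec_lV.symm).2
  rw [fold_lV, vec_lV] at h1
  have h2 : (w.map e).prod • Spor.leechV = Spor.leechV := Subtype.ext h1
  rw [← coe_leechV, co0_neg, neg_inj] at h2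
  exact h2

/-- The element of a word. -/
noncomputable def gw (w : List ℕ) : G3 := ⟨(w.map e).prod, word_fix w⟩

theorem inv_of_chk {a i : ℕ} (h : chk a 8 = true) (hi : i < tab.length) (ha : a ≤ i) (hb : i < a + 8) :
    inv6 ((tab[i].1.map e).prod) = tab[i].2 := by
  rw [inv6_word rep]
  apply eqL_eq
  refine List.all_eq_true.1 h tab[i] ?_
  rw [List.mem_iff_getElem?]
  refine ⟨i - a, ?_⟩
  rw [List.getElem?_take_of_lt (by omega), List.getElem?_drop, show a + (i - a) = i by omega,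
    List.getElem?_eq_getElem hi]

theorem inv_tab {i : ℕ} (hi : i < tab.length) : inv6 ((tab[i].1.map e).prod) = tab[i].2 := by
  have h := hi
  rw [tab_length] at h
  rcases lt_or_ge i 8 with h1 | h1
  · exact inv_of_chk chkw0 hi (by omega) (by omega)
  rcases lt_or_ge i 16 with h1 | h1
  · exact inv_of_chk chkw1 hi (by omega) (by omega)
  rcases lt_or_ge i 24 with h1 | h1
  · exact inv_of_chk chkw2 hi (by omega) (by omega)
  rcases lt_or_ge i 32 with h1 | h1
  · exact inv_of_chk chkw3 hi (by omega) (by omega)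
  · exact inv_of_chk chkw4 hi (by omega) (by omega)

/-- **`Co3` has at least 33 conjugacy classes.** -/
theorem card_conjClasses : 33 ≤ Nat.card (ConjClasses G3) := by
  classical
  have h1 : (tab.map Prod.snd).toFinset.card = 33 := by
    rw [List.toFinset_card_of_nodup tab_nodup, List.length_map, tab_length]
  rw [← h1]
  refine le_card_conjClasses' (fun g : G3 => inv6 (g : Co0)) ?_ _ ?_
  · intro x y hxy
    obtain ⟨c, rfl⟩ := isConj_iff.1 hxy
    exact (inv6_conj (x : Co0) (c : Co0)).symm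
  · intro v hv
    rw [List.mem_toFinset, List.mem_map] at hv
    obtain ⟨p, hp, rfl⟩ := hv
    obtain ⟨i, hi, rfl⟩ := List.mem_iff_getElem.1 hp
    exact ⟨gw tab[i].1, inv_tab hi⟩

/-! ### the row -/

theorem inner (α : MulAut G3) : α ∈ (MulAut.conj : G3 →* MulAut G3).range := by
  obtain ⟨f⟩ := isoCo3_G3
  obtain ⟨g, hg⟩ := Cfsg.Agent.CpAut.TwoInner.inner_congr f
    (Cfsg.Agent.H419.Row.inner_of_out Cfsg.Agent.S2071.result) α
  exact ⟨g, hg.symm⟩

theorem vz : VZ G3 t := by
  refine vz_of_card_inner t ?_ inner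
  have h1 := card_cent
  have h2 := card_conjClasses
  omega

theorem co3_2 {K : Type u} [Group K] (h : Spor.IsoCo3 K) : VPow 2 K := by
  obtain ⟨f⟩ := h
  obtain ⟨f'⟩ := isoCo3_G3
  have h1 : orderOf t ∣ 2 ^ 3 := orderOf_dvd_of_pow_eq_one t_pow
  obtain ⟨j, -, hj⟩ := (Nat.dvd_prime_pow Nat.prime_two).1 h1
  exact VPow.mulEquiv ⟨t, ⟨j, hj⟩, vz⟩ (f'.trans f.symm)

end Cfsg.Agent.H592.VN.Co3
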